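import Cfsg.Prelude.Def_Blocks
import Cfsg.Agent.H615.GU.Types
import Cfsg.Agent.H421.GLn.Newt

/-!
# PQ, theta = fermions: the abstract interfaces (helper56)

See `notes/PQ/theta.md`.

* `HS V` : a space with an orthonormal basis (irreducible characters), rank, defect mod 4;
* `Cyc H` : Harish-Chandra operators `h`, `hs`, theta operators `R`, `L` (the 4-cycle), the vacuum;
* `Cyc.ps`, `Cyc.pt` : the fermions on the Fock space `ℤ →₀ V`; `CAR C` : their relations;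
* `Loc C` : the local operators of the places; `Rel P` : their relations with the fermions;
* `Lab P` : the labels; `IntH` : integrality; `Tgt` : the data of the target; `Sf` : Schur functions;
* `GT` : towers of groups; `Mod`, `Ker`, `Pl`, `PlLab` : the group level data.
-/

set_option autoImplicit false
set_option linter.unusedSectionVars false

namespace Cfsg.Agent.PQ.Th

open Module Cfsg Cfsg.Agent.H615.GU
open scoped ComplexConjugate

/-! ### spaces with an orthonormal basis -/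

/-- an orthonormal basis with rank and defect -/
structure HS (V : Type) [AddCommGroup V] [Module ℂ V] where
  ι : Type
  b : Basis ι ℂ V
  rk : ι → ℕ
  df : ι → ZMod 4

/-- odd defect -/
def Od (D : ZMod 4) : Prop := D = 1 ∨ D = 3

variable {V : Type} [AddCommGroup V] [Module ℂ V]

namespace HS

variable (H : HS V)

/-- the inner product, linear in the first variable -/
noncomputable def ip (u v : V) : ℂ := (H.b.repr u).sum fun i c => c * conj (H.b.repr v i)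

/-- the lattice -/
def Z : AddSubgroup V where
  carrier := {u | ∀ i, ∃ n : ℤ, H.b.repr u i = n}
  zero_mem' := fun _ => ⟨0, by simp⟩
  add_mem' := fun {u v} hu hv i => by
    obtain ⟨m, hm⟩ := hu i
    obtain ⟨n, hn⟩ := hv i
    exact ⟨m + n, by simp [hm, hn]⟩
  neg_mem' := fun {u} hu i => by
    obtain ⟨m, hm⟩ := hu i
    exact ⟨-m, by simp [hm]⟩

/-- the span of the basis vectors with a property -/
def sup (P : H.ι → Prop) : Submodule ℂ V where
  carrier := {u | ∀ i, ¬ P i → H.b.repr u i = 0}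
  zero_mem' := fun _ _ => by simp
  add_mem' := fun {u v} hu hv i hi => by simp [hu i hi, hv i hi]
  smul_mem' := fun c {u} hu i hi => by simp [hu i hi]

/-- rank `n` -/
def gr (n : ℤ) : Submodule ℂ V := H.sup fun i => (H.rk i : ℤ) = n

/-- defect `D` -/
def cmp (D : ZMod 4) : Submodule ℂ V := H.sup fun i => H.df i = D

/-- adjoint operators -/
def Adj (A B : End ℂ V) : Prop := ∀ u v, H.ip (A u) v = H.ip u (B v)

/-- integral operator -/
def Itg (A : End ℂ V) : Prop := ∀ u ∈ H.Z, A u ∈ H.Z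

/-- homogeneous operator: rank `+ d`, defect `+ s` -/
def Hom (A : End ℂ V) (d : ℤ) (s : ZMod 4) : Prop := ∀ i, A (H.b i) ∈ H.gr (H.rk i + d) ⊓ H.cmp (H.df i + s)

/-- the operator with the given values on the basis -/
noncomputable def mk' (f : H.ι → V) : End ℂ V := H.b.constr ℂ f

open Classical in
/-- the projection to the odd part -/
noncomputable def po : End ℂ V := H.mk' fun i => if Od (H.df i) then H.b i else 0

open Classical in
/-- the projection to the even part -/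
noncomputable def pe : End ℂ V := H.mk' fun i => if Od (H.df i) then 0 else H.b i

/-- `+1` on the odd part, `-1` on the even part -/
noncomputable def J : End ℂ V := H.po - H.pe

open Classical in
/-- `0` on the odd part, `1` on the even part -/
noncomputable def dl (i : H.ι) : ℤ := if Od (H.df i) then 0 else 1

/-- the Fock space: copies indexed by `M`, the number of particles is `2 M + [odd]` -/
noncomputable def fock : HS (ℤ →₀ V) where
  ι := Σ _ : ℤ, H.ι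
  b := Finsupp.basis fun _ => H.b
  rk x := H.rk x.2
  df x := H.df x.2

end HS

/-- a sequence of operators extended by zero to negative indices -/
def ez (u : ℕ → End ℂ V) (i : ℤ) : End ℂ V := if 0 ≤ i then u i.toNat else 0

/-- the inverse series -/
noncomputable def inv (u : ℕ → End ℂ V) : ℕ → End ℂ V
  | 0 => 1
  | n + 1 => -∑ i : Fin (n + 1), u (i + 1) * inv u (n - i)
decreasing_by omega

theorem inv_realised : True := by have := @inv.eq_def; trivial

/-- complete homogeneous elements from power sums: `n h_n = ∑_{i=1}^n P_i h_{n-i}` -/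
noncomputable def nw (P : ℕ → End ℂ V) : ℕ → End ℂ V
  | 0 => 1
  | n + 1 => ((n + 1 : ℂ)⁻¹) • ∑ i : Fin (n + 1), P (i + 1) * nw P (n - i)
decreasing_by omega

theorem nw_realised : True := by have := @nw.eq_def; trivial

/-- the operator in every copy -/
noncomputable def lf (A : End ℂ V) : End ℂ (ℤ →₀ V) := Finsupp.mapRange.linearMap A

/-- the operator `A M` from the copy `M` to the copy `M + s` -/
noncomputable def mv (s : ℤ) (A : ℤ → End ℂ V) : End ℂ (ℤ →₀ V) :=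
  Finsupp.lsum ℂ fun M => Finsupp.lsingle (M + s) ∘ₗ A M

/-! ### the 4-cycle -/

/-- **the 4-cycle of theta correspondences** -/
structure Cyc (H : HS V) where
  h : ℕ → End ℂ V
  hs : ℕ → End ℂ V
  R : ℤ → End ℂ V
  L : ℤ → End ℂ V
  h0 : h 0 = 1
  h_hom : ∀ k, H.Hom (h k) k 0
  h_itg : ∀ k, H.Itg (h k)
  h_adj : ∀ k, H.Adj (h k) (hs k)
  R_hom : ∀ d, H.Hom (R d) d 1
  R_itg : ∀ d, H.Itg (R d)
  R_adj : ∀ d, H.Adj (R d) (L (-d))
  g2 : ∀ k l, hs k * h l = ∑ r ∈ Finset.range (min k l + 1), ((r : ℂ) + 1) • (h (l - r) * hs (k - r))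
  g3 : ∀ (d : ℤ) (k : ℕ), R d * h k = ∑ i ∈ Finset.range (k + 1), h i * R (d + k - i)
  g3' : ∀ (d : ℤ) (k : ℕ), hs k * R d = ∑ i ∈ Finset.range (k + 1), R (d - k + i) * hs i
  g4 : ∀ (d d' : ℤ) i, L d (R (-d') (H.b i)) + R (H.dl i - d') (L (d - H.dl i) (H.b i)) =
    ∑ j ∈ Finset.range (H.rk i + 1), ez h (d - d' + j) (hs j (H.b i))
  g5 : ∀ (d d' : ℤ) i, ¬ Od (H.df i) → H.rk i + d ≤ 0 → R d (R d' (H.b i)) = 0
  /-- the vacuum -/
  o : H.ι
  o_df : H.df o = 1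
  o_rk : H.rk o = 0
  o_R : R 0 (H.b o) = 0

/-- sites: row (`false` = row 1, `true` = row 2) and position -/
abbrev Site : Type := Bool × ℤ

/-- the sites which are filled in the vacuum -/
def Sea (c : Site) : Prop := if c.1 then c.2 ≤ -1 else c.2 ≤ 0

namespace Cyc

variable {H : HS V} (C : Cyc H)

/-- `T = R + L` -/
noncomputable def T (d : ℤ) : End ℂ V := C.R d + C.L d

/-- `X^A_d = ∑_j A_{d+j} ē*_j` -/
noncomputable def X (A : ℤ → End ℂ V) (d : ℤ) : End ℂ V :=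
  H.mk' fun i => ∑ j ∈ Finset.range (H.rk i + 1), A (d + j) (inv C.hs j (H.b i))

/-- `Y^A_d = ∑_j ē_j A_{d-j}` -/
noncomputable def Y (A : ℤ → End ℂ V) (d : ℤ) : End ℂ V :=
  H.mk' fun i => ∑ j ∈ Finset.range ((H.rk i + d).toNat + 1), inv C.h j (A (d - j) (H.b i))

/-- a family of odd operators as an operator which adds a particle at the position `x` -/
noncomputable def up (A : ℤ → End ℂ V) (x : ℤ) : End ℂ (ℤ →₀ V) :=
  mv 1 (fun M => A (x - M) * H.po) + mv 0 (fun M => A (x - M) * H.pe)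

/-- a family of odd operators as an operator which removes a particle at the position `x` -/
noncomputable def dn (A : ℤ → End ℂ V) (x : ℤ) : End ℂ (ℤ →₀ V) :=
  mv 0 (fun M => A (M - x) * H.po) + mv (-1) (fun M => A (M - 1 - x) * H.pe)

/-- creation operators -/
noncomputable def ps (c : Site) : End ℂ (ℤ →₀ V) :=
  if c.1 then up (H := H) (fun d => C.X C.L d * H.J) c.2 else up (H := H) (C.X C.R) c.2

/-- annihilation operators -/
noncomputable def pt (c : Site) : End ℂ (ℤ →₀ V) :=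
  if c.1 then dn (H := H) (fun d => H.J * C.Y C.R d) c.2 else dn (H := H) (C.Y C.L) c.2

/-- the vacuum vector -/
noncomputable def Om : ℤ →₀ V := Finsupp.single 0 (H.b C.o)

/-- vectors of vacuum type -/
def Vac : Submodule ℂ (ℤ →₀ V) where
  carrier := {v | (∀ c, Sea c → C.ps c v = 0) ∧ ∀ c, ¬ Sea c → C.pt c v = 0}
  zero_mem' := ⟨fun _ _ => map_zero _, fun _ _ => map_zero _⟩
  add_mem' := fun {u v} hu hv => ⟨fun c hc => by rw [map_add, hu.1 c hc, hv.1 c hc, add_zero],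
    fun c hc => by rw [map_add, hu.2 c hc, hv.2 c hc, add_zero]⟩
  smul_mem' := fun a {u} hu => ⟨fun c hc => by rw [map_smul, hu.1 c hc, smul_zero],
    fun c hc => by rw [map_smul, hu.2 c hc, smul_zero]⟩

/-- the sums of the principal characters: even part -/
noncomputable def oe (n : ℤ) : V := C.T n (H.b C.o)

/-- the sums of the principal characters: odd part -/
noncomputable def oo (n : ℤ) : V := C.T n (C.T 0 (H.b C.o))

end Cyc

/-- **the canonical anticommutation relations** (box CAR) -/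
structure CAR {H : HS V} (C : Cyc H) : Prop where
  adj : ∀ c, H.fock.Adj (C.ps c) (C.pt c)
  itg_s : ∀ c, H.fock.Itg (C.ps c)
  itg_t : ∀ c, H.fock.Itg (C.pt c)
  st : ∀ c c', C.ps c * C.pt c' + C.pt c' * C.ps c = if c = c' then 1 else 0
  ss : ∀ c c', C.ps c * C.ps c' + C.ps c' * C.ps c = 0
  tt : ∀ c c', C.pt c * C.pt c' + C.pt c' * C.pt c = 0
  om : C.Om ∈ C.Vac
  /-- odd vectors of vacuum type are killed by all `hs j` (then `X A d u = A d u`) -/
  vac_hs : ∀ u, H.po u = u → Finsupp.single 0 u ∈ C.Vac → ∀ j, 0 < j → C.hs j u = 0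
  rr : ∀ (a b : ℤ) i, C.R a (C.R b (H.b i)) = C.R (b + H.dl i) (C.R (a - H.dl i) (H.b i))
  ll : ∀ (a b : ℤ) i, C.L a (C.L b (H.b i)) = C.L (b + H.dl i) (C.L (a - H.dl i) (H.b i))

/-- box CAR -/
def BoxCAR : Prop := ∀ (V : Type) [AddCommGroup V] [Module ℂ V] (H : HS V) (C : Cyc H), CAR C

/-! ### places -/

/-- `ε ^ j`, `ng = true` is the unitary case -/
def ep (ng : Bool) (j : ℕ) : ℤ := if ng then (-1) ^ j else 1

/-- the shift of the defect -/
def sh (ng : Bool) (j : ℕ) : ZMod 4 := if ng then 2 * j else 0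

/-- `|Q ^ j - 1|` for `Q = ε q₀` -/
noncomputable def nn (ng : Bool) (q₀ j : ℕ) : ℂ := (q₀ : ℂ) ^ j - ep ng j

/-- **the local operators**: `D j α = ∑_{d i ∣ j} α i • d i • p^{(i)}_{j / d i}`, `mul F` = multiplication by a
function of the sizes -/
structure Loc {H : HS V} (C : Cyc H) where
  k : ℕ
  k_pos : 0 < k
  ng : Bool
  q₀ : ℕ
  two_le : 2 ≤ q₀
  I : Type
  [fI : Fintype I]
  [dI : DecidableEq I]
  d : I → ℕ
  d_pos : ∀ i, 0 < d i
  D : ℕ → (I → ℂ) →ₗ[ℂ] End ℂ V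
  Ds : ℕ → (I → ℂ) → End ℂ V
  mul : ((I → ℕ) → ℂ) →ₐ[ℂ] End ℂ V
  T0 : ℤ → End ℂ V
  D0 : ∀ α, D 0 α = 0
  D_ndvd : ∀ j i, ¬ d i ∣ j → D j (Pi.single i 1) = 0
  D_hom : ∀ j α, H.Hom (D j α) (k * j) (sh ng j)
  D_adj : ∀ j α, H.Adj (D j α) (Ds j α)
  DD : ∀ j α l β, D j α * D l β = D l β * D j α
  DsD : ∀ j α l β, Ds j α * D l β = D l β * Ds j α +
    (if j = l then (j : ℂ) * (∑ i with d i ∣ j, conj (α i) * β i * d i) / nn ng q₀ j else 0) • 1
  mul_hom : ∀ F, H.Hom (mul F) 0 0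
  mul_adj : ∀ F, H.Adj (mul F) (mul fun v => conj (F v))
  mul_supp : ∀ F x, (∀ v, k * ∑ i, d i * v i ≤ H.rk x → F v = 0) → mul F (H.b x) = 0
  mul_D : ∀ F j i, mul F * D j (Pi.single i 1) = D j (Pi.single i 1) * mul fun v => F (v + Pi.single i (j / d i))
  T0_adj : ∀ e, H.Adj (T0 e) (T0 (-e))
  T0_gr : ∀ e x, T0 e (H.b x) ∈ H.gr (H.rk x + e)
  T0_J : ∀ e, T0 e * H.J = -(H.J * T0 e)
  T0_mul : ∀ e F, T0 e * mul F = mul F * T0 e
  T0_D : ∀ e j α, T0 e * D j α = (ep ng j : ℂ) • (D j α * T0 e)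
  fac : ∀ (e : ℤ) x, C.T e (H.b x) = ∑ a ∈ Finset.range ((H.rk x + e).toNat + 1), ∑ b ∈ Finset.range (H.rk x + 1),
    nw (fun j => D j 1) a (T0 (e - k * a + k * b) (nw (fun j => Ds j 1) b (H.b x)))
  /-- no primitive vectors -/
  cpl : ∀ (u : V) (v : I → ℕ) (i : I), 0 < v i → mul (Pi.single v 1) u = u → (∀ j, Ds j (Pi.single i 1) u = 0) → u = 0

attribute [local instance] Loc.fI Loc.dI

namespace Loc

variable {H : HS V} {C : Cyc H} (P : Loc C)

/-- the sign operator of the hat -/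
noncomputable def hat (j : ℕ) : End ℂ V := if P.ng = true ∧ Odd j then -H.J else 1

/-- the local operators with the hat, on the Fock space -/
noncomputable def Dh (j : ℕ) (α : P.I → ℂ) : End ℂ (ℤ →₀ V) := lf (P.hat j * P.D j α)

/-- their adjoints -/
noncomputable def Dsh (j : ℕ) (α : P.I → ℂ) : End ℂ (ℤ →₀ V) := lf (P.hat j * P.Ds j α)

/-- the shift `σ ^ j` of the sites -/
def sig (j : ℕ) (c : Site) : Site := (xor c.1 (P.ng && decide (Odd j)), c.2 + P.k * j)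

/-- the runner of a site (orbits of `σ`) -/
def run (c : Site) : Bool × ZMod P.k := (xor c.1 (P.ng && decide (Odd (c.2 / P.k))), (c.2 : ZMod P.k))

/-- the coefficient in the commutator with a fermion -/
noncomputable def cf (j : ℕ) (α : P.I → ℂ) : ℂ := (∑ i with P.d i ∣ j, α i * P.d i) / nn P.ng P.q₀ j

/-- `∑_{c ∈ S} ψ_{σ^j c} ψ*_c` -/
noncomputable def aa (S : Set Site) (j : ℕ) : End ℂ (ℤ →₀ V) :=
  H.fock.mk' fun x => ∑ᶠ c ∈ S, C.ps (P.sig j c) (C.pt c (H.fock.b x))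

/-- `∑_{c ∈ S} ψ_c ψ*_{σ^j c}` -/
noncomputable def as (S : Set Site) (j : ℕ) : End ℂ (ℤ →₀ V) :=
  H.fock.mk' fun x => ∑ᶠ c ∈ S, C.ps c (C.pt (P.sig j c) (H.fock.b x))

end Loc

/-- **the local operators shift the fermions** (box REL) -/
structure Rel {H : HS V} {C : Cyc H} (P : Loc C) : Prop where
  adj : ∀ j α, H.fock.Adj (P.Dh j α) (P.Dsh j α)
  s : ∀ j α c, P.Dh j α * C.ps c = C.ps c * P.Dh j α + P.cf j α • C.ps (P.sig j c)
  t : ∀ j α c, P.Dh j α * C.pt (P.sig j c) = C.pt (P.sig j c) * P.Dh j α - P.cf j α • C.pt c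
  s' : ∀ j α c, P.Dsh j α * C.ps (P.sig j c) = C.ps (P.sig j c) * P.Dsh j α + conj (P.cf j α) • C.ps c
  t' : ∀ j α c, P.Dsh j α * C.pt c = C.pt c * P.Dsh j α - conj (P.cf j α) • C.pt (P.sig j c)

/-- box REL -/
def BoxREL : Prop :=
  ∀ (V : Type) [AddCommGroup V] [Module ℂ V] (H : HS V) (C : Cyc H) (P : Loc C), CAR C → Rel P

/-! ### labels -/

/-- the arithmetic data: `l = p ^ b`, `g` generates `⟨q, -1⟩` modulo `l`, `ζ i` = the `p`-part of the class `i` -/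
structure Ar (k : ℕ) (I : Type) where
  p : ℕ
  pp : p.Prime
  b : ℕ
  b_pos : 0 < b
  a : ℕ
  a_lt : a < p
  g : ZMod (p ^ b)
  g_pow : g ^ (2 * k) = 1
  g_neg : g ^ k = -1
  g_free : ∀ (s : ℕ) (z : ZMod (p ^ b)), z ≠ 0 → g ^ s * z = z → 2 * k ∣ s
  χ : AddChar (ZMod (p ^ b)) ℂ
  prim : χ.IsPrimitive
  ζ : I → ZMod (p ^ b)

namespace Ar

variable {k : ℕ} {I : Type} (A : Ar k I)

/-- the orbit sum of a character -/
noncomputable def τ (c z : ZMod (A.p ^ A.b)) : ℂ := ∑ s ∈ Finset.range (2 * k), A.χ (c * A.g ^ s * z)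

/-- `∏_γ (1 + c^γ(z) X)` -/
noncomputable def W (c z : ZMod (A.p ^ A.b)) : Polynomial ℂ :=
  ∏ s ∈ Finset.range (2 * k), (1 + Polynomial.C (A.χ (c * A.g ^ s * z)) * Polynomial.X)

/-- the count of the classes -/
def Cnt [Fintype I] (d : I → ℕ) (ng : Bool) (q₀ : ℕ) : Prop :=
  ∀ j, 0 < j → j ≤ A.a → ∀ f : ZMod (A.p ^ A.b) → ℂ, f 0 = 0 → (∀ z, f (A.g * z) = f z) →
    2 * k * (A.p : ℂ) ^ A.b * ∑ i with d i ∣ j, d i * f (A.ζ i) = nn ng q₀ j * ∑ᶠ z, f z

/-- the Brauer lift of the exterior powers, as a function of the sizes, in rank `m` -/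
noncomputable def lam [Fintype I] (d : I → ℕ) (c : ZMod (A.p ^ A.b)) (m r : ℕ) (v : I → ℕ) : ℂ :=
  ((∏ i, A.W c (A.ζ i) ^ (d i * v i)) * (1 + Polynomial.X) ^ (2 * (m - k * ∑ i, d i * v i))).coeff r

end Ar

/-- the labels -/
structure Lab {H : HS V} {C : Cyc H} (P : Loc C) (A : Ar P.k P.I) : Prop where
  cnt : A.Cnt P.d P.ng P.q₀
  lift : ∀ c r x, H.rk x ≤ P.k * A.a → P.mul (A.lam P.d c (H.rk x) r) (H.b x) ∈ H.Z

namespace Loc

variable {H : HS V} {C : Cyc H} (P : Loc C) (A : Ar P.k P.I)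

/-- the weights of a label -/
noncomputable def wt (j : ℕ) (c : ZMod (A.p ^ A.b)) : P.I → ℂ := fun i => A.τ c (j * A.ζ i) - 2 * P.k

/-- **the power sums of a label** -/
noncomputable def PL (c : ZMod (A.p ^ A.b)) (j : ℕ) : End ℂ (ℤ →₀ V) := P.Dh j (P.wt A j c) + P.aa Set.univ j

/-- their adjoints -/
noncomputable def PLs (c : ZMod (A.p ^ A.b)) (j : ℕ) : End ℂ (ℤ →₀ V) := P.Dsh j (P.wt A j c) + P.as Set.univ j

/-- monomials in the complete homogeneous elements of the labels, applied to the vacuum, are integral -/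
def IntH : Prop := ∀ l : List (ZMod (A.p ^ A.b) × ℕ), (∀ y ∈ l, y.1 ≠ 0) → (l.map Prod.snd).sum ≤ A.a →
  (l.map fun y => nw (P.PL A y.1) y.2).prod C.Om ∈ H.fock.Z

end Loc

/-- **the Heisenberg relations of runners and labels** (box HEI) -/
structure Hei {H : HS V} {C : Cyc H} (P : Loc C) (A : Ar P.k P.I) : Prop where
  aa_adj : ∀ S j, H.fock.Adj (P.aa S j) (P.as S j)
  aa_s : ∀ ρ j c, 0 < j → P.aa (P.run ⁻¹' ρ) j * C.ps c =
    C.ps c * P.aa (P.run ⁻¹' ρ) j + (open Classical in if P.run c ∈ ρ then C.ps (P.sig j c) else 0)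
  aa_t : ∀ ρ j c, 0 < j → P.aa (P.run ⁻¹' ρ) j * C.pt (P.sig j c) =
    C.pt (P.sig j c) * P.aa (P.run ⁻¹' ρ) j - (open Classical in if P.run c ∈ ρ then C.pt c else 0)
  aa_aa : ∀ ρ ρ' j l, 0 < j → 0 < l → Commute (P.aa (P.run ⁻¹' ρ) j) (P.aa (P.run ⁻¹' ρ') l)
  as_aa : ∀ ρ ρ' j l, 0 < j → 0 < l → P.as (P.run ⁻¹' {ρ}) j * P.aa (P.run ⁻¹' {ρ'}) l =
    P.aa (P.run ⁻¹' {ρ'}) l * P.as (P.run ⁻¹' {ρ}) j + (if j = l ∧ ρ = ρ' then (j : ℂ) else 0) • 1
  aa_sum : ∀ j, P.aa Set.univ j = ∑ᶠ ρ, P.aa (P.run ⁻¹' {ρ}) j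
  as_sum : ∀ j, P.as Set.univ j = ∑ᶠ ρ, P.as (P.run ⁻¹' {ρ}) j
  pl_adj : ∀ c j, H.fock.Adj (P.PL A c j) (P.PLs A c j)
  pl_s : ∀ c j x, c ≠ 0 → 0 < j → j ≤ A.a → Commute (P.PL A c j) (C.ps x)
  pl_t : ∀ c j x, c ≠ 0 → 0 < j → j ≤ A.a → Commute (P.PL A c j) (C.pt x)
  pl_pl : ∀ c c' j l, c ≠ 0 → c' ≠ 0 → 0 < j → j ≤ A.a → 0 < l → l ≤ A.a → Commute (P.PL A c j) (P.PL A c' l)
  pls_pl : ∀ c c' j l, c ≠ 0 → c' ≠ 0 → 0 < j → j ≤ A.a → 0 < l → l ≤ A.a → P.PLs A c j * P.PL A c' l =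
    P.PL A c' l * P.PLs A c j + (open Classical in if j = l ∧ ∃ s : ℕ, c' = A.g ^ s * c then (j : ℂ) else 0) • 1

/-- box HEI -/
def BoxHEI : Prop :=
  ∀ (V : Type) [AddCommGroup V] [Module ℂ V] (H : HS V) (C : Cyc H) (P : Loc C) (A : Ar P.k P.I),
    CAR C → Rel P → Lab P A → Hei P A

/-- box INT (the necklace argument) -/
def BoxINT : Prop :=
  ∀ (V : Type) [AddCommGroup V] [Module ℂ V] (H : HS V) (C : Cyc H) (P : Loc C) (A : Ar P.k P.I),
    CAR C → Rel P → Lab P A → Hei P A → P.IntH A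

/-! ### Schur functions -/

/-- monomials of weight `w` in a family of operators, applied to a vector -/
def Mon {J : Type} (Q : J → ℕ → End ℂ V) (κ : V) (w : ℕ) : Set V :=
  {u | ∃ l : List (J × ℕ), (∀ y ∈ l, 0 < y.2) ∧ (l.map Prod.snd).sum = w ∧ u = (l.map fun y => Q y.1 y.2).prod κ}

/-- box SF: an orthonormal integral basis in a Fock module of a product of Heisenberg algebras -/
def BoxSF : Prop :=
  ∀ (V : Type) [AddCommGroup V] [Module ℂ V] (H : HS V) (J : Type) [Fintype J] [DecidableEq J]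
    (P Ps : J → ℕ → End ℂ V) (a : ℕ) (κ : V),
    (∀ i j, 0 < j → j ≤ a → H.Adj (P i j) (Ps i j)) →
    (∀ i i' j l, 0 < j → j ≤ a → 0 < l → l ≤ a → Commute (P i j) (P i' l)) →
    (∀ i i' j l, 0 < j → j ≤ a → 0 < l → l ≤ a →
      Ps i j * P i' l = P i' l * Ps i j + (if j = l ∧ i = i' then (j : ℂ) else 0) • 1) →
    H.ip κ κ = 1 → (∀ i j, 0 < j → j ≤ a → Ps i j κ = 0) →
    ∀ w ≤ a, ∃ s : Finset V, (∀ u ∈ s, H.ip u u = 1) ∧ (∀ u ∈ s, ∀ v ∈ s, u ≠ v → H.ip u v = 0) ∧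
      Submodule.span ℤ (s : Set V) = Submodule.span ℤ (Mon (fun i => nw (P i)) κ w) ∧
      Submodule.span ℂ (s : Set V) = Submodule.span ℂ (Mon P κ w) ∧
      ∀ u ∈ s, ∃ (N : ℤ) (n : J → ℕ), N ∣ w.factorial ∧
        ∀ c : J → ℂ, ((∑ i, c i • Ps i 1) ^ w) u = (N * ∏ i, c i ^ n i) • κ

/-! ### the target -/

/-- the data of an irreducible character of the principal `p`-block and of the prime `r` -/
structure Tgt {H : HS V} {C : Cyc H} (P : Loc C) (A : Ar P.k P.I) (x : H.ι) (r : ℕ) (deg : V →ₗ[ℂ] ℂ) : Prop where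
  rp : r.Prime
  a_lt : A.a < r
  r_k : ¬ r ∣ 2 * P.k
  a_le : P.k * A.a ≤ H.rk x
  /-- nothing below the cores -/
  low : ∀ y (j : ℕ), 0 < j → H.rk y + P.k * (A.a + j) = H.rk x → H.df y ≠ H.df x + sh P.ng (A.a + j)
  deg_int : ∀ y, ∃ m : ℤ, deg (H.b y) = m
  core : ∀ y, H.rk y + P.k * A.a = H.rk x → H.df y = H.df x + sh P.ng A.a → ∀ m : ℤ, deg (H.b y) = m → ¬ (r : ℤ) ∣ m
  /-- the place of an element of order `r` -/
  cong : ∃ i, P.d i = 1 ∧ A.ζ i = 0 ∧ ∀ j < A.a, ∀ u ∈ H.Z, u ∈ H.gr (H.rk x - P.k * j) → u ∈ H.cmp (H.df x + sh P.ng j) →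
    ∀ m z : ℤ, deg u = m → nn P.ng P.q₀ 1 * deg (P.Ds 1 (Pi.single i 1) u) = z → (r : ℤ) ∣ m - z
  /-- the place of an element of order `p` -/
  wt : ∃ i, P.d i = 1 ∧ P.mul (Pi.single (Pi.single i A.a) 1) (H.b x) ≠ 0
  /-- the principal characters, and the sum over the `p`-regular elements -/
  reg : ∃ on : ℤ → V, (on = C.oe ∨ on = C.oo) ∧
    (∀ n : ℕ, on n = ∑ j ∈ Finset.range (n + 1), nw (fun j => P.D j 1) j (P.mul (Pi.single 0 1) (on (n - P.k * j)))) ∧
    H.ip (H.b x) (P.mul (fun v => if ∀ i, A.ζ i ≠ 0 → v i = 0 then 1 else 0) (on (H.rk x))) ≠ 0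

/-- box MAIN -/
def BoxMAIN : Prop :=
  ∀ (V : Type) [AddCommGroup V] [Module ℂ V] (H : HS V) (C : Cyc H) (P : Loc C) (A : Ar P.k P.I) (x : H.ι) (r : ℕ)
    (deg : V →ₗ[ℂ] ℂ), BoxSF → CAR C → Rel P → Lab P A → Hei P A → P.IntH A → Tgt P A x r deg →
    ∀ m : ℤ, deg (H.b x) = m → ¬ (r : ℤ) ∣ m

end Cfsg.Agent.PQ.Th
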